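import Groth.Agent.SemiVanLib.Affine
import Groth.Agent.AffCompLib.Basic
import Groth.Agent.AlterAmpleLib.Leray
import Groth.Agent.BCLib.Grauert
import Groth.Agent.BCLib.SteinFlat
import Groth.Agent.TwistFlatLib.Flat
import Groth.Agent.DCohLib.ProjFlf
import Groth.Agent.DCohMore.RelAmp
import Groth.Agent.RpushLib.Finite

/-!
# Vanishing of higher direct images through a flat contraction
-/

set_option autoImplicit false
set_option backward.isDefEq.respectTransparency false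
set_option linter.style.haveILetI false

universe u

open CategoryTheory CategoryTheory.Limits AlgebraicGeometry TopologicalSpace Opposite
open Groth.Agent.PullbackMod Groth.Agent.DCohLib Groth.Agent.AmpleLib
open Groth.Agent.AmpleEmb Groth.Agent.CohBase

noncomputable section

namespace Groth.Agent.SemiVanLib

variable {X Y S : Scheme.{u}}

theorem isZero_rightDerived_of_isZero {C D : Type*} [Category C] [Category D] [Abelian C] [Abelian D]
    [HasInjectiveResolutions C] (F : C ⥤ D) [F.Additive] [PreservesFiniteLimits F] (p : ℕ) {M : C} (hM : IsZero M) :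
    IsZero ((F.rightDerived p).obj M) := by
  haveI := hM.injective
  rcases p with _ | p
  · exact (F.map_isZero hM).of_iso (F.rightDerivedZeroIsoSelf.app M)
  · exact F.isZero_rightDerived_obj_injective_succ p M

theorem isZero_toAb [HasInjectiveResolutions X.Modules] (f : X ⟶ Y) (i : ℕ) {M : X.Modules}
    (h : IsZero ((Coh.Rpush f i).obj M)) : IsZero ((Coh.RpushAb f i).obj (Coh.toAb M)) :=
  IsZero.of_iso ((QCohLib.toAbF Y).map_isZero h) ((RpushLib.toAbRpushIso f i).app M).symm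

theorem isZero_of_toAb [HasInjectiveResolutions X.Modules] (f : X ⟶ Y) (i : ℕ) {M : X.Modules}
    (h : IsZero ((Coh.RpushAb f i).obj (Coh.toAb M))) : IsZero ((Coh.Rpush f i).obj M) := by
  have h1 : IsZero ((QCohLib.toAbF Y).obj ((Coh.Rpush f i).obj M)) :=
    IsZero.of_iso h ((RpushLib.toAbRpushIso f i).app _)
  rw [IsZero.iff_id_eq_zero]
  exact (QCohLib.toAbF Y).map_injective (h1.eq_of_src _ _)

/-- Invertible modules are flat over the base of a flat morphism. -/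
theorem isFlatOver_invertible (ψ : X ⟶ Y) [Flat ψ] [IsLocallyNoetherian X] {P : X.Modules}
    (hP : PicF.IsInvertible P) : FlatMod.IsFlatOver ψ P := by
  have hc := CurveLib.isCoh_of_isInvertible hP
  haveI := hc.1
  haveI : Coh.IsQCoh (Coh.structureModule X) := (DevLib.isCoh_structureModule X).1
  have e : DCohLib.tmod (Coh.structureModule X) P ≅ P := AmpleLib.unitL _
  haveI : Coh.IsQCoh (DCohLib.tmod (Coh.structureModule X) P) := DCohLib.isQCoh_of_iso' e.symm hc.1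
  exact DCohMore.isFlatOver_of_iso ψ e (TwistFlat.isFlatOver_tensor ψ hP (BCLib.isFlatOver_structureModule ψ))

/-- Vanishing on every fibre gives vanishing of the higher direct image. -/
theorem isZero_rpush_of_fibres [IsLocallyNoetherian Y] (ψ : X ⟶ Y) [IsProper ψ] [Flat ψ]
    [HasInjectiveResolutions X.Modules] {P : X.Modules} (hP : PicF.IsInvertible P) (i : ℕ)
    (h : ∀ y, Subsingleton (CohIII.fiberH ψ P y i)) : IsZero ((Coh.Rpush ψ i).obj P) := by
  haveI : IsLocallyNoetherian X := LocallyOfFiniteType.isLocallyNoetherian ψ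
  refine DCohLib.isZero_of_local fun y => ?_
  have h0 : CohIII.fiberRank ψ P i y = 0 := by
    haveI := h y
    exact Module.finrank_zero_of_subsingleton
  obtain ⟨U, hyU, hU⟩ :=
    BCLib.exists_isZero_rpush ψ (CurveLib.isCoh_of_isInvertible hP) (isFlatOver_invertible ψ hP) i y h0
  exact ⟨U, U.ι, inferInstance, ⟨y, hyU⟩, rfl, hU⟩

/-- Higher direct images of a composite vanish in degree `i` once the pieces do. -/
theorem isZero_rpush_comp [HasInjectiveResolutions X.Modules] [HasInjectiveResolutions Y.Modules]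
    (ψ : X ⟶ Y) (q : Y ⟶ S) {M : X.Modules} (i : ℕ) (hi : 0 < i)
    (hψ : ∀ j, 0 < j → j ≤ i → IsZero ((Coh.Rpush ψ j).obj M))
    (hq : IsZero ((Coh.Rpush q i).obj ((Scheme.Modules.pushforward ψ).obj M))) :
    IsZero ((Coh.Rpush (ψ ≫ q) i).obj M) := by
  refine isZero_of_toAb (ψ ≫ q) i ?_
  haveI : PreservesFiniteLimits (Coh.pushAb q) :=
    haveI : PreservesLimitsOfSize.{0, 0} (Coh.pushAb q) :=
      (TopCat.Sheaf.pullbackPushforwardAdjunction AddCommGrpCat.{u} q.base).rightAdjoint_preservesLimits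
    inferInstance
  haveI : PreservesFiniteLimits (Coh.pushAb ψ) :=
    haveI : PreservesLimitsOfSize.{0, 0} (Coh.pushAb ψ) :=
      (TopCat.Sheaf.pullbackPushforwardAdjunction AddCommGrpCat.{u} ψ.base).rightAdjoint_preservesLimits
    inferInstance
  refine AlterAmpleLib.isZero_rightDerived_comp (Coh.pushAb ψ) (Coh.pushAb q)
    (AffComp.isAcyclicFor_pushAb_injective ψ q) (Coh.toAb M) i fun j p hjp => ?_
  rcases j with _ | j
  · rw [show p = i by omega]
    refine IsZero.of_iso ?_ (((Coh.pushAb q).rightDerived i).mapIso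
      ((Coh.pushAb ψ).rightDerivedZeroIsoSelf.app (Coh.toAb M)))
    exact isZero_toAb q i hq
  · exact isZero_rightDerived_of_isZero (Coh.pushAb q) p
      (isZero_toAb ψ (j + 1) (hψ (j + 1) (Nat.succ_pos j) (by omega)))

/-- Powers of `L` through powers of `N`. -/
def splitIso (ψ : X ⟶ Y) {L : X.Modules} {N : Y.Modules} {ℓ : ℕ}
    (eN : (Scheme.Modules.pullback ψ).obj N ≅ CohB1.tensorPow L ℓ) (M' : X.Modules) (e s : ℕ) :
    CohB1.tensorMod (CohB1.tensorMod (CohB1.tensorPow L e) M')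
        ((Scheme.Modules.pullback ψ).obj (CohB1.tensorPow N s)) ≅
      CohB1.tensorMod (CohB1.tensorPow L (e + ℓ * s)) M' :=
  AmpleLib.assoc _ _ _ ≪≫ AmpleLib.tIso (Iso.refl _) (AmpleLib.comm _ _) ≪≫ (AmpleLib.assoc _ _ _).symm ≪≫
    AmpleLib.tIso (AmpleLib.tIso (Iso.refl _)
      (AmpleLib.pullPow ψ N s ≪≫ AmpleLib.powCongr eN s ≪≫ AmpleLib.powMul L ℓ s) ≪≫
        (AmpleLib.powAdd L e (ℓ * s)).symm) (Iso.refl _)

/-- The restriction of the pullback relation over an open of the intermediate scheme. -/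
def restrictPullIso (ψ : X ⟶ Y) (V : Y.Opens) {L : X.Modules} {N : Y.Modules} {ℓ : ℕ}
    (eN : (Scheme.Modules.pullback ψ).obj N ≅ CohB1.tensorPow L ℓ) :
    (Scheme.Modules.pullback (ψ ∣_ V)).obj (N.restrict V.ι) ≅ CohB1.tensorPow (L.restrict (ψ ⁻¹ᵁ V).ι) ℓ :=
  (Scheme.Modules.pullback (ψ ∣_ V)).mapIso (AmpleLib.restrictIso V.ι N) ≪≫
    (Scheme.Modules.pullbackComp (ψ ∣_ V) V.ι).app N ≪≫
    (Scheme.Modules.pullbackCongr (morphismRestrict_ι ψ V)).app N ≪≫
    ((Scheme.Modules.pullbackComp (ψ ⁻¹ᵁ V).ι ψ).app N).symm ≪≫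
    (AmpleLib.restrictIso (ψ ⁻¹ᵁ V).ι _).symm ≪≫
    (Scheme.Modules.restrictFunctor (ψ ⁻¹ᵁ V).ι).mapIso eN ≪≫ AmpleLib.restrictPow (ψ ⁻¹ᵁ V).ι L ℓ

theorem isCoh_pair {L M : X.Modules} [IsLocallyNoetherian X] (hL : PicF.IsInvertible L) (hM : PicF.IsInvertible M)
    (a b : ℕ) : Coh.IsCoh (CohB1.tensorMod (CohB1.tensorPow L a) (CohB1.tensorPow M b)) :=
  CurveLib.isCoh_tmod (CurveLib.isCoh_of_isInvertible (AmpleLib.isInvertible_tensorPow hL a))
    (CurveLib.isCoh_of_isInvertible (AmpleLib.isInvertible_tensorPow hM b))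

theorem isInvertible_pair {L M : X.Modules} (hL : PicF.IsInvertible L) (hM : PicF.IsInvertible M) (a b : ℕ) :
    PicF.IsInvertible (CohB1.tensorMod (CohB1.tensorPow L a) (CohB1.tensorPow M b)) :=
  AmpleLib.isInvertible_tensor (AmpleLib.isInvertible_tensorPow hL a) (AmpleLib.isInvertible_tensorPow hM b)

variable (ψ : X ⟶ Y) (q : Y ⟶ S)

/-- Large powers of the relatively ample module. -/
theorem exists_isZero_large [IsNoetherian S] [IsProper (ψ ≫ q)] [IsProper q] [HasInjectiveResolutions X.Modules]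
    {L M : X.Modules} (hL : PicF.IsInvertible L) (hM : PicF.IsInvertible M)
    (hMa : ∀ W : S.Opens, IsAffineOpen W → CohB1.IsAmple (M.restrict ((ψ ≫ q) ⁻¹ᵁ W).ι))
    {N : Y.Modules} (hNa : ∀ W : S.Opens, IsAffineOpen W → CohB1.IsAmple (N.restrict (q ⁻¹ᵁ W).ι))
    {ℓ : ℕ} (hℓ : 0 < ℓ) (eN : (Scheme.Modules.pullback ψ).obj N ≅ CohB1.tensorPow L ℓ) :
    ∃ B : ℕ, ∀ i a b : ℕ, 0 < i → B ≤ b →
      IsZero ((Coh.Rpush (ψ ≫ q) i).obj (CohB1.tensorMod (CohB1.tensorPow L a) (CohB1.tensorPow M b))) := by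
  classical
  haveI : IsLocallyNoetherian X := LocallyOfFiniteType.isLocallyNoetherian (ψ ≫ q)
  obtain ⟨s, hs, hseq⟩ := isCompact_iff_finite_and_eq_biUnion_affineOpens.mp
    (show IsCompact ((⊤ : S.Opens) : Set S) from isCompact_univ)
  have key : ∀ V : S.affineOpens, ∃ d : ℕ, ∀ a b : ℕ, d ≤ b → ∀ (g : Γ(S, V.1)) (p : ℕ),
      Subsingleton (HU ((ψ ≫ q) ⁻¹ᵁ S.basicOpen g) (Coh.toAb
        (CohB1.tensorMod (CohB1.tensorPow L a) (CohB1.tensorPow M b))) (p + 1)) := by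
    intro V
    let U := (ψ ≫ q) ⁻¹ᵁ V.1
    haveI : IsNoetherianRing Γ(S, V.1) := IsLocallyNoetherian.component_noetherian V
    let φ : U.toScheme ⟶ Spec Γ(S, V.1) := (ψ ≫ q) ∣_ V.1 ≫ V.2.isoSpec.hom
    let φY : (q ⁻¹ᵁ V.1).toScheme ⟶ Spec Γ(S, V.1) := q ∣_ V.1 ≫ V.2.isoSpec.hom
    haveI : IsProper φ := inferInstance
    haveI : IsProper φY := inferInstance
    obtain ⟨d, hd⟩ := exists_vanish_semi (R := Γ(S, V.1)) (X := U.toScheme) (Y := (q ⁻¹ᵁ V.1).toScheme)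
      (ψ ∣_ (q ⁻¹ᵁ V.1)) φ φY (L := L.restrict U.ι) (M := M.restrict U.ι)
      (ParaFLib.isInvertible_restrict U.ι hL) (hMa V.1 V.2) (hNa V.1 V.2) hℓ (restrictPullIso ψ (q ⁻¹ᵁ V.1) eN)
    refine ⟨d, fun a b hb g p => ?_⟩
    have hN := isCoh_pair hL hM a b
    haveI := hN.1
    refine subsingleton_HU_preimage_basicOpen (ψ ≫ q) _ V.2 p ?_ g
    exact CurveLib.subsingleton_HH_iso (AmpleLib.restrictTensor U.ι _ _ ≪≫
      AmpleLib.tIso (AmpleLib.restrictPow U.ι L a) (AmpleLib.restrictPow U.ι M b)).symm (p + 1)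
      (hd a b (p + 1) hb p.succ_pos)
  choose d hd using key
  refine ⟨hs.toFinset.sup d, fun i a b hi hb => isZero_of_toAb (ψ ≫ q) i ?_⟩
  obtain ⟨j, rfl⟩ : ∃ j, i = j + 1 := ⟨i - 1, by omega⟩
  refine RpushLib.isZero_rightDerived_at (ψ ≫ q).base
    (B := fun U => ∃ V ∈ s, ∃ g : Γ(S, V.1), U = S.basicOpen g) (fun W y hy => ?_)
    (Coh.toAb (CohB1.tensorMod (CohB1.tensorPow L a) (CohB1.tensorPow M b))) j ?_
  · obtain ⟨V, hV, hyV⟩ : ∃ V ∈ s, y ∈ (V : S.Opens) := by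
      have hy' : y ∈ (⊤ : S.Opens) := trivial
      rw [hseq] at hy'
      simpa [Opens.mem_iSup] using hy'
    obtain ⟨g, hgW, hyg⟩ := V.2.exists_basicOpen_le (V := W) ⟨y, hy⟩ hyV
    exact ⟨S.basicOpen g, ⟨V, hV, g, rfl⟩, hyg, hgW⟩
  · rintro _ ⟨V, hV, g, rfl⟩
    exact hd V a b ((Finset.le_sup (f := d) (hs.mem_toFinset.mpr hV)).trans hb) g j

/-- A fixed power of the ample module and a large power of the semiample one. -/
theorem exists_isZero_small [IsNoetherian S] [IsProper (ψ ≫ q)] [IsProper q] [Flat ψ]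
    [HasInjectiveResolutions X.Modules] {L M : X.Modules} (hL : PicF.IsInvertible L) (hM : PicF.IsInvertible M)
    {N : Y.Modules} (hN : PicF.IsInvertible N)
    (hNa : ∀ W : S.Opens, IsAffineOpen W → CohB1.IsAmple (N.restrict (q ⁻¹ᵁ W).ι))
    {ℓ : ℕ} (hℓ : 0 < ℓ) (eN : (Scheme.Modules.pullback ψ).obj N ≅ CohB1.tensorPow L ℓ) (c b : ℕ)
    (hfib : ∀ (y : Y) (i r : ℕ), 1 ≤ i → i ≤ c →
      Subsingleton (CohIII.fiberH ψ (CohB1.tensorMod (CohB1.tensorPow L r) (CohB1.tensorPow M b)) y i)) :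
    ∃ A : ℕ, ∀ i a : ℕ, 1 ≤ i → i ≤ c → A ≤ a →
      IsZero ((Coh.Rpush (ψ ≫ q) i).obj (CohB1.tensorMod (CohB1.tensorPow L a) (CohB1.tensorPow M b))) := by
  haveI : IsLocallyNoetherian Y := LocallyOfFiniteType.isLocallyNoetherian q
  haveI : IsProper ψ := IsProper.of_comp ψ q
  haveI : IsLocallyNoetherian X := LocallyOfFiniteType.isLocallyNoetherian ψ
  haveI : HasInjectiveResolutions Y.Modules := inferInstance
  have hqc : ∀ e : ℕ, Coh.IsQCoh (CohB1.tensorMod (CohB1.tensorPow L e) (CohB1.tensorPow M b)) := fun e =>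
    (isCoh_pair hL hM e b).1
  have hs : ∀ e : ℕ, ∃ s₀ : ℕ, ∀ s, s₀ ≤ s → ∀ p, 0 < p → IsZero ((Coh.Rpush q p).obj (CohB1.tensorMod
      ((Scheme.Modules.pushforward ψ).obj (CohB1.tensorMod (CohB1.tensorPow L e) (CohB1.tensorPow M b)))
      (CohB1.tensorPow N s))) := fun e =>
    haveI := hqc e
    AmpleEmb.exists_isZero_rpush_tensorPow q hN hNa (RpushLib.isCoh_push ψ (isCoh_pair hL hM e b))
  choose s₀ hs₀ using hs
  let A := (Finset.range ℓ).sup s₀
  refine ⟨ℓ * (A + 1), fun i a hi hic ha => ?_⟩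
  have he : a % ℓ < ℓ := Nat.mod_lt a hℓ
  have hA : A ≤ a / ℓ :=
    (Nat.le_succ A).trans ((Nat.le_div_iff_mul_le hℓ).2 (by rw [mul_comm]; exact ha))
  refine isZero_rpush_comp ψ q i hi (fun j hj hji =>
    isZero_rpush_of_fibres ψ (isInvertible_pair hL hM a b) j fun y => hfib y j a hj (hji.trans hic)) ?_
  haveI := DCohLib.isIso_projMap_of_flf ψ (CurveLib.isFinLocFree_of_isInvertible
    (AmpleLib.isInvertible_tensorPow hN (a / ℓ)))
    (CohB1.tensorMod (CohB1.tensorPow L (a % ℓ)) (CohB1.tensorPow M b))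
  refine IsZero.of_iso (hs₀ (a % ℓ) (a / ℓ) ((Finset.le_sup (Finset.mem_range.2 he)).trans hA) i hi)
    ((Coh.Rpush q i).mapIso ?_)
  exact (Scheme.Modules.pushforward ψ).mapIso (eqToIso (congrArg
      (fun n => CohB1.tensorMod (CohB1.tensorPow L n) (CohB1.tensorPow M b)) (Nat.mod_add_div a ℓ).symm) ≪≫
    (splitIso ψ eN (CohB1.tensorPow M b) (a % ℓ) (a / ℓ)).symm) ≪≫
      (asIso (DCohLib.projMap ψ (CohB1.tensorMod (CohB1.tensorPow L (a % ℓ)) (CohB1.tensorPow M b))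
        (CohB1.tensorPow N (a / ℓ)))).symm

/-- Vanishing through a flat contraction. -/
theorem exists_isZero_rpush [IsNoetherian S] [IsProper (ψ ≫ q)] [IsProper q] [Flat ψ]
    [HasInjectiveResolutions X.Modules] {L M : X.Modules} (hL : PicF.IsInvertible L) (hM : PicF.IsInvertible M)
    (hMa : ∀ W : S.Opens, IsAffineOpen W → CohB1.IsAmple (M.restrict ((ψ ≫ q) ⁻¹ᵁ W).ι))
    {N : Y.Modules} (hN : PicF.IsInvertible N)
    (hNa : ∀ W : S.Opens, IsAffineOpen W → CohB1.IsAmple (N.restrict (q ⁻¹ᵁ W).ι))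
    {ℓ : ℕ} (hℓ : 0 < ℓ) (eN : (Scheme.Modules.pullback ψ).obj N ≅ CohB1.tensorPow L ℓ) (c d : ℕ)
    (hfib : ∀ (y : Y) (i r j : ℕ), 1 ≤ i → i ≤ c → d ≤ j →
      Subsingleton (CohIII.fiberH ψ (CohB1.tensorMod (CohB1.tensorPow L r) (CohB1.tensorPow M j)) y i)) :
    ∃ n : ℕ, ∀ (i a b : ℕ), 1 ≤ i → i ≤ c → d ≤ b → n ≤ max a b →
      IsZero ((Coh.Rpush (ψ ≫ q) i).obj (CohB1.tensorMod (CohB1.tensorPow L a) (CohB1.tensorPow M b))) := by
  obtain ⟨B, hB⟩ := exists_isZero_large ψ q hL hM hMa hNa hℓ eN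
  have h : ∀ b : ℕ, ∃ A : ℕ, d ≤ b → ∀ i a : ℕ, 1 ≤ i → i ≤ c → A ≤ a →
      IsZero ((Coh.Rpush (ψ ≫ q) i).obj (CohB1.tensorMod (CohB1.tensorPow L a) (CohB1.tensorPow M b))) := fun b => by
    by_cases hb : d ≤ b
    · obtain ⟨A, hA⟩ := exists_isZero_small ψ q hL hM hN hNa hℓ eN c b fun y i r h1 h2 => hfib y i r b h1 h2 hb
      exact ⟨A, fun _ => hA⟩
    · exact ⟨0, fun hb' => absurd hb' hb⟩
  choose A hA using h
  refine ⟨max B ((Finset.range B).sup A), fun i a b h1 h2 h3 h4 => ?_⟩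
  by_cases hb : B ≤ b
  · exact hB i a b h1 hb
  · have : A b ≤ (Finset.range B).sup A := Finset.le_sup (Finset.mem_range.2 (by omega))
    exact hA b h3 i a h1 h2 (by omega)

end Groth.Agent.SemiVanLib
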