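import Groth.Agent.AmpleEmb.RelVanish
import Groth.Agent.CMRegLib.OnX

/-!
# Uniform vanishing for a semiample and an ample module over an affine base
-/

set_option autoImplicit false
set_option backward.isDefEq.respectTransparency false
set_option linter.style.haveILetI false

universe u

open CategoryTheory CategoryTheory.Limits AlgebraicGeometry TopologicalSpace Opposite
open Groth.Agent.PullbackMod Groth.Agent.DCohLib Groth.Agent.ParaFLib Groth.Agent.AmpleLib
open Groth.Agent.AmpleEmb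

noncomputable section

namespace Groth.Agent.SemiVanLib

variable {X Y : Scheme.{u}} {R : Type u} [CommRing R] [IsNoetherianRing R]

/-- On a scheme with an embedding module, high cohomology of coherent modules vanishes. -/
theorem subsingleton_above {φ : R →+* Γ(X, ⊤)} {L : X.Modules} (E : Emb φ L)
    (f : X ⟶ Spec (CommRingCat.of R)) [IsProper f] {G : X.Modules} (hG : Coh.IsCoh G) (q : ℕ)
    (hq : E.n + 1 ≤ q + 1) : Subsingleton (Coh.HH X G (q + 1)) := by
  haveI : IsLocallyNoetherian X := LocallyOfFiniteType.isLocallyNoetherian f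
  obtain ⟨N, hN, ⟨e⟩⟩ := exists_isInverseOf E.inv
  let T₀ := (E.mulData e).tensor G
  have h0 : Coh.IsCoh (T₀.F 0) := CurveLib.isCoh_tmod hG (DevLib.isCoh_structureModule X)
  let T := T₀.toTwistData h0.1 E.isAffineOpen_inf
  exact CurveLib.subsingleton_HH_iso (AmpleLib.unitR G) _
    (T.subsingleton_HH_of_card_le 0 q (by simp; omega))

theorem isCoh_pullback_pw [IsLocallyNoetherian X] (ψ : X ⟶ Y) {P N : Y.Modules} (hP : PicF.IsInvertible P)
    (hN : PicF.IsInvertible N) (d : ℤ) : Coh.IsCoh ((Scheme.Modules.pullback ψ).obj (pw P N d)) := by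
  refine CurveLib.isCoh_of_isInvertible (AmpleLib.isInvertible_pullback ψ ?_)
  cases d
  · exact isInvertible_tensorPow hP _
  · exact isInvertible_tensorPow hN _

/-- All twists by powers vanish once the small ones do. -/
theorem vanish_pull {φ : R →+* Γ(Y, ⊤)} {φ' : R →+* Γ(X, ⊤)} {N : Y.Modules} {M : X.Modules}
    (E : Emb φ N) (E' : Emb φ' M) (f : X ⟶ Spec (CommRingCat.of R)) [IsProper f] (ψ : X ⟶ Y)
    {G : X.Modules} (hG : Coh.IsCoh G)
    (h : ∀ j : ℕ, j ≤ E'.n + 1 → ∀ q, 0 < q →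
      Subsingleton (Coh.HH X (tmod G ((Scheme.Modules.pullback ψ).obj (CohB1.tensorPow E.P j))) q))
    (d : ℕ) (p : ℕ) (hp : 0 < p) :
    Subsingleton (Coh.HH X (tmod G ((Scheme.Modules.pullback ψ).obj (CohB1.tensorPow E.P d))) p) := by
  haveI : IsLocallyNoetherian X := LocallyOfFiniteType.isLocallyNoetherian f
  by_cases hd : d ≤ E'.n + 1
  · exact h d hd p hp
  obtain ⟨N', hN', ⟨e⟩⟩ := exists_isInverseOf E.inv
  let T₀ := ((E.mulData e).pullback ψ).tensor G
  have hreg : CMRegLib.DataReg T₀ ((E'.n + 1 : ℕ) : ℤ) := by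
    intro q hq
    by_cases hqc : q ≤ E'.n + 1
    · rw [show ((E'.n + 1 : ℕ) : ℤ) - (q : ℤ) = ((E'.n + 1 - q : ℕ) : ℤ) by omega]
      exact h (E'.n + 1 - q) (by omega) q hq
    · obtain ⟨q', rfl⟩ : ∃ q', q = q' + 1 := ⟨q - 1, by omega⟩
      exact subsingleton_above E' f (CurveLib.isCoh_tmod hG (isCoh_pullback_pw ψ E.inv hN' _)) q' (by omega)
  exact hreg.vanish_ge (q := p) hp (d := (d : ℤ)) (by omega)

variable (ψ : X ⟶ Y)

/-- Powers of `L` through powers of a module pulling back to a power of `L`. -/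
def powPullIso {L : X.Modules} {N P : Y.Modules} {ℓ D : ℕ}
    (eN : (Scheme.Modules.pullback ψ).obj N ≅ CohB1.tensorPow L ℓ) (eP : P ≅ CohB1.tensorPow N D) (j : ℕ) :
    (Scheme.Modules.pullback ψ).obj (CohB1.tensorPow P j) ≅ CohB1.tensorPow L (ℓ * (D * j)) :=
  (Scheme.Modules.pullback ψ).mapIso (AmpleLib.powCongr eP j ≪≫ AmpleLib.powMul N D j) ≪≫
    AmpleLib.pullPow ψ N (D * j) ≪≫ AmpleLib.powCongr eN (D * j) ≪≫ AmpleLib.powMul L ℓ (D * j)

/-- Uniform vanishing when the power of the ample module is large. -/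
theorem exists_vanish_semi (f : X ⟶ Spec (CommRingCat.of R)) [IsProper f]
    (g : Y ⟶ Spec (CommRingCat.of R)) [LocallyOfFiniteType g] {L M : X.Modules} {N : Y.Modules}
    (hL : PicF.IsInvertible L) (hM : CohB1.IsAmple M) (hN : CohB1.IsAmple N) {ℓ : ℕ} (hℓ : 0 < ℓ)
    (eN : (Scheme.Modules.pullback ψ).obj N ≅ CohB1.tensorPow L ℓ) :
    ∃ B : ℕ, ∀ a b p : ℕ, B ≤ b → 0 < p →
      Subsingleton (Coh.HH X (tmod (CohB1.tensorPow L a) (CohB1.tensorPow M b)) p) := by
  haveI : IsLocallyNoetherian X := LocallyOfFiniteType.isLocallyNoetherian f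
  haveI := hM.2.1
  haveI : IsNoetherian X := { }
  rcases isEmpty_or_nonempty X with hX | hX
  · refine ⟨0, fun a b p _ hp => CurveLib.subsingleton_HH_of_dim _ (d := 0) ?_ hp⟩
    refine Order.krullDim_nonpos_iff_forall_isMax.2 fun Z => ?_
    obtain ⟨x, -⟩ := Z.isIrreducible.1
    exact (hX.false x).elim
  haveI : Nonempty Y := hX.map ψ.base
  obtain ⟨E'⟩ := exists_emb hM f ((Scheme.ΓSpecIso (CommRingCat.of R)).inv ≫ f.appTop).hom rfl
  obtain ⟨E⟩ := exists_emb hN g ((Scheme.ΓSpecIso (CommRingCat.of R)).inv ≫ g.appTop).hom rfl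
  have cL : ∀ r : ℕ, Coh.IsCoh (CohB1.tensorPow L r) := fun r =>
    CurveLib.isCoh_of_isInvertible (isInvertible_tensorPow hL r)
  have cM : ∀ r : ℕ, Coh.IsCoh (CohB1.tensorPow M r) := fun r =>
    CurveLib.isCoh_of_isInvertible (isInvertible_tensorPow hM.1 r)
  have cP : ∀ j : ℕ, Coh.IsCoh ((Scheme.Modules.pullback ψ).obj (CohB1.tensorPow E.P j)) := fun j =>
    CurveLib.isCoh_of_isInvertible (AmpleLib.isInvertible_pullback ψ (isInvertible_tensorPow E.inv j))
  have h1 : ∀ r j : ℕ, ∃ n₀ : ℕ, ∀ b, n₀ ≤ b → ∀ p, 0 < p →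
      Subsingleton (Coh.HH X (tmod (tmod (CohB1.tensorPow L r)
        ((Scheme.Modules.pullback ψ).obj (CohB1.tensorPow E.P j))) (CohB1.tensorPow M b)) p) := fun r j =>
    serre_vanishing f hM (CurveLib.isCoh_tmod (cL r) (cP j))
  choose B₀ hB₀ using h1
  let m := ℓ * E.D
  have hm : 0 < m := Nat.mul_pos hℓ E.hD
  refine ⟨(Finset.range m).sup fun r => (Finset.range (E'.n + 2)).sup (B₀ r), fun a b p hb hp => ?_⟩
  have hr : a % m < m := Nat.mod_lt a hm
  have key : Subsingleton (Coh.HH X (tmod (tmod (CohB1.tensorPow L (a % m)) (CohB1.tensorPow M b))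
      ((Scheme.Modules.pullback ψ).obj (CohB1.tensorPow E.P (a / m)))) p) := by
    refine vanish_pull E E' f ψ (CurveLib.isCoh_tmod (cL (a % m)) (cM b)) (fun j hj q hq => ?_) _ p hp
    have hB : B₀ (a % m) j ≤ b :=
      ((Finset.le_sup (f := B₀ (a % m)) (Finset.mem_range.2 (by omega))).trans
        (Finset.le_sup (f := fun r => (Finset.range (E'.n + 2)).sup (B₀ r)) (Finset.mem_range.2 hr))).trans hb
    refine CurveLib.subsingleton_HH_iso ?_ q (hB₀ (a % m) j b hB q hq)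
    exact AmpleLib.assoc _ _ _ ≪≫ AmpleLib.tIso (Iso.refl _) (AmpleLib.comm _ _) ≪≫ (AmpleLib.assoc _ _ _).symm
  refine CurveLib.subsingleton_HH_iso ?_ p key
  exact AmpleLib.assoc _ _ _ ≪≫ AmpleLib.tIso (Iso.refl _) (AmpleLib.comm _ _) ≪≫ (AmpleLib.assoc _ _ _).symm ≪≫
    AmpleLib.tIso (AmpleLib.tIso (Iso.refl _) (powPullIso ψ eN E.iso _) ≪≫
      (AmpleLib.powAdd L (a % m) (ℓ * (E.D * (a / m)))).symm ≪≫
        eqToIso (congrArg (CohB1.tensorPow L) (by rw [← mul_assoc]; exact Nat.mod_add_div a m))) (Iso.refl _)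

end Groth.Agent.SemiVanLib
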